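import Mathlib.Algebra.CharP.Frobenius
import Groth.Agent.Lsc5.Count
import Groth.Agent.Neron6.BirOpen
import Groth.Agent.GenDiff29.Basic

/-! The Frobenius twist of a smooth variety over a field. -/

noncomputable section

set_option linter.style.haveILetI false
set_option backward.isDefEq.respectTransparency false
set_option backward.isDefEq.respectTransparency.types false
set_option autoImplicit false

universe u

open CategoryTheory CategoryTheory.Limits AlgebraicGeometry TopologicalSpace Opposite

namespace Groth.Agent.FrobTwist

variable {k : Type u} [Field k] (p : ℕ) [ExpChar k p] (r : ℕ)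

/-- The iterated Frobenius of the base. -/
abbrev frobBase : Spec (CommRingCat.of k) ⟶ Spec (CommRingCat.of k) :=
  Spec.map (CommRingCat.ofHom (iterateFrobenius k p r))

theorem universallyInjective_frobBase : UniversallyInjective (frobBase (k := k) p r) := by
  refine Lsc5.universallyInjective_SpecMap _ (Field.toIsField k) (Field.toIsField k) fun E _ σ τ h => ?_
  haveI : ExpChar E p := expChar_of_injective_ringHom σ.injective p
  ext a
  refine iterateFrobenius_inj E p r ?_
  have h' : σ (iterateFrobenius k p r a) = τ (iterateFrobenius k p r a) := RingHom.congr_fun h a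
  rw [iterateFrobenius_def, map_pow, map_pow] at h'
  simpa [iterateFrobenius_def] using h'

theorem surjective_frobBase : Surjective (frobBase (k := k) p r) := by
  haveI : Subsingleton (Spec (CommRingCat.of k)) := inferInstanceAs (Subsingleton (PrimeSpectrum k))
  exact ⟨fun x => ⟨x, Subsingleton.elim _ _⟩⟩

theorem isIntegralHom_frobBase : IsIntegralHom (frobBase (k := k) p r) := by
  refine IsIntegralHom.SpecMap_iff.2 fun a => ⟨Polynomial.X ^ p ^ r - Polynomial.C a, ?_, ?_⟩
  · exact Polynomial.monic_X_pow_sub_C _ (pow_ne_zero r (expChar_ne_zero k p))
  · simp [iterateFrobenius_def]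

variable {X : Scheme.{u}} (f : X ⟶ Spec (CommRingCat.of k))

theorem isHomeomorph_fst : IsHomeomorph (pullback.fst f (frobBase p r)) := by
  haveI := universallyInjective_frobBase (k := k) p r
  haveI := surjective_frobBase (k := k) p r
  haveI := isIntegralHom_frobBase (k := k) p r
  haveI : IsIntegralHom (pullback.fst f (frobBase p r)) := MorphismProperty.pullback_fst f (frobBase p r) ‹_›
  haveI : UniversallyInjective (pullback.fst f (frobBase p r)) := MorphismProperty.pullback_fst f (frobBase p r) ‹_›
  haveI : Surjective (pullback.fst f (frobBase p r)) := MorphismProperty.pullback_fst f (frobBase p r) ‹_›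
  refine isHomeomorph_iff_continuous_isClosedMap_bijective.2
    ⟨(pullback.fst f (frobBase p r)).continuous, (pullback.fst f (frobBase p r)).isClosedMap,
      (pullback.fst f (frobBase p r)).injective, (pullback.fst f (frobBase p r)).surjective⟩

theorem topologicalKrullDim_pullback :
    topologicalKrullDim (pullback f (frobBase p r) : Scheme.{u}) = topologicalKrullDim X :=
  (isHomeomorph_fst p r f).topologicalKrullDim_eq _

theorem isNormalScheme_Spec : Pi1.IsNormalScheme (Spec (CommRingCat.of k)) := fun x => by
  haveI : Subsingleton (Spec (CommRingCat.of k)) := inferInstanceAs (Subsingleton (PrimeSpectrum k))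
  have h := GenDiff29.isField_stalk_of_eq (Y := Spec (CommRingCat.of k)) (y := x) (Subsingleton.elim _ _)
  letI := h.toField
  exact ⟨inferInstance, inferInstance⟩

theorem isNormalScheme_pullback [Smooth f] : Pi1.IsNormalScheme (pullback f (frobBase p r) : Scheme.{u}) :=
  Neron6.isNormalScheme_of_smooth (pullback.snd f (frobBase p r)) isNormalScheme_Spec

theorem isIntegral_pullback [Smooth f] [IsIntegral X] : IsIntegral (pullback f (frobBase p r) : Scheme.{u}) := by
  haveI : ∀ x : (pullback f (frobBase p r) : Scheme.{u}), _root_.IsReduced ((pullback f (frobBase p r)).presheaf.stalk x) :=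
    fun x => by haveI := (isNormalScheme_pullback p r f x).1; infer_instance
  haveI : IsReduced (pullback f (frobBase p r) : Scheme.{u}) := isReduced_of_isReduced_stalk _
  haveI : IrreducibleSpace (pullback f (frobBase p r) : Scheme.{u}) :=
    Function.Surjective.irreducibleSpace (isHomeomorph_fst p r f).homeomorph.symm.continuous
      (isHomeomorph_fst p r f).homeomorph.symm.surjective
  exact isIntegral_of_irreducibleSpace_of_isReduced _

end Groth.Agent.FrobTwist
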