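import Groth.Agent.FrobTwist.Main
import Groth.Agent.CurveBC.Coh
import Groth.Agent.RegLoc6.Normal

/-! Invariants of a purely inseparable image of a smooth curve. -/

noncomputable section

set_option linter.style.haveILetI false
set_option backward.isDefEq.respectTransparency false
set_option backward.isDefEq.respectTransparency.types false
set_option autoImplicit false

universe u

open CategoryTheory CategoryTheory.Limits AlgebraicGeometry TopologicalSpace Opposite

namespace Groth.Agent.FrobTwist

variable {k : Type u} [Field k]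

theorem isNormalScheme_of_regular {X : Scheme.{u}} [IsIntegral X]
    (h : ∀ x : X, IsRegularLocalRing (X.presheaf.stalk x)) : Pi1.IsNormalScheme X := fun x => by
  haveI := h x
  exact ⟨inferInstance, RegLoc6.isIntegrallyClosed_of_isRegularLocalRing _⟩

theorem smooth_and_finrank_hh_eq (p : ℕ) [ExpChar k p] (r : ℕ) {X Y : Scheme.{u}}
    [X.Over (Spec (CommRingCat.of k))] [Y.Over (Spec (CommRingCat.of k))]
    [IsProper (X ↘ Spec (CommRingCat.of k))] [Smooth (X ↘ Spec (CommRingCat.of k))]
    (i : Y ≅ (pullback (X ↘ Spec (CommRingCat.of k)) (frobBase p r) : Scheme.{u}))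
    (hi : i.hom ≫ pullback.snd (X ↘ Spec (CommRingCat.of k)) (frobBase p r) = Y ↘ Spec (CommRingCat.of k)) :
    Smooth (Y ↘ Spec (CommRingCat.of k)) ∧
      ∀ n : ℕ, Module.finrank k (Coh.HH Y (Coh.structureModule Y) n) =
        Module.finrank k (Coh.HH X (Coh.structureModule X) n) := by
  have hpb : IsPullback (i.hom ≫ pullback.fst (X ↘ Spec (CommRingCat.of k)) (frobBase p r))
      (Y ↘ Spec (CommRingCat.of k)) (X ↘ Spec (CommRingCat.of k))
      (Spec.map (CommRingCat.ofHom (iterateFrobenius k p r))) :=
    (IsPullback.of_hasPullback _ _).of_iso i.symm (Iso.refl _) (Iso.refl _) (Iso.refl _)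
      (by simp) (by simp [← hi]) (by simp) (by simp)
  haveI : CompactSpace X := QuasiCompact.compactSpace_of_compactSpace (X ↘ Spec (CommRingCat.of k))
  haveI : QuasiSeparatedSpace X :=
    quasiSeparatedSpace_of_quasiSeparated (X ↘ Spec (CommRingCat.of k))
  refine ⟨MorphismProperty.of_isPullback (P := @Smooth) hpb ‹_›, fun n => ?_⟩
  exact @CurveBC.finrank_hh_unit k _ X _ _ _ k _ (iterateFrobenius k p r).toAlgebra Y _ _ hpb n

end Groth.Agent.FrobTwist
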