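import Groth.Agent.FrobTwist.Main
import Groth.Agent.CurveHurwitz.Basic
import Groth.Agent.H23.Isogeny
import Mathlib.FieldTheory.SeparableClosure

/-! Every finite map of curves is a separable map after a Frobenius twist of the source. -/

noncomputable section

set_option linter.style.haveILetI false
set_option backward.isDefEq.respectTransparency false
set_option backward.isDefEq.respectTransparency.types false
set_option autoImplicit false

universe u

open CategoryTheory CategoryTheory.Limits AlgebraicGeometry TopologicalSpace Opposite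

namespace Groth.Agent.FrobTwist

open CurveLuroth

variable {k : Type u} [Field k]

/-- A map of function fields extends to a map of curves. -/
theorem exists_hom_of_ff {A B : Scheme.{u}} [IsIntegral A] [IsIntegral B] (a : A ⟶ Spec (CommRingCat.of k))
    (b : B ⟶ Spec (CommRingCat.of k)) [IsProper a] (hB : ∀ y : B, ValuationRing (B.presheaf.stalk y))
    (ψ : A.functionField ⟶ B.functionField) (hψ : ffC a ≫ ψ = ffC b) :
    ∃ (H : B ⟶ A) (eH : H (genericPoint B) = genericPoint A), H ≫ a = b ∧
      A.presheaf.stalkSpecializes (specializes_of_eq eH) ≫ H.stalkMap (genericPoint B) = ψ := by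
  haveI : A.IsSeparated := ⟨by rw [← Limits.terminal.comp_from a]; infer_instance⟩
  have h₀ : (Spec.map ψ ≫ A.fromSpecStalk (genericPoint A)) ≫ a = B.fromSpecStalk _ ≫ b := by
    rw [Category.assoc, ← spec_ffC, ← Spec.map_comp, hψ, spec_ffC]
  obtain ⟨W, hW, H₀, hsub, hH, hH'⟩ := H23.RatExtend.extend b a _ h₀ Set.univ
    fun p _ => H23.RatExtend.exists_lift b a _ h₀ p (hB p)
  haveI : IsIso W.ι := by
    have : Surjective W.ι := ⟨fun y => ⟨⟨y, hsub (Set.mem_univ _)⟩, rfl⟩⟩
    exact (isIso_iff_isOpenImmersion_and_surjective _).2 ⟨inferInstance, this⟩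
  let H : B ⟶ A := inv W.ι ≫ H₀
  have hHs : B.fromSpecStalk (genericPoint B) ≫ H = Spec.map ψ ≫ A.fromSpecStalk (genericPoint A) := by
    rw [← hH', ← Scheme.Opens.fromSpecStalkOfMem_ι W (genericPoint B) hW, Category.assoc,
      IsIso.hom_inv_id_assoc]
  have eH : H (genericPoint B) = genericPoint A := by
    have h := congrArg (fun φ : Spec B.functionField ⟶ A => φ (IsLocalRing.closedPoint B.functionField)) hHs
    simp only [Scheme.Hom.comp_apply, Scheme.fromSpecStalk_closedPoint] at h
    haveI : Subsingleton (Spec A.functionField) := inferInstanceAs (Subsingleton (PrimeSpectrum A.functionField))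
    rw [Subsingleton.elim (Spec.map ψ (IsLocalRing.closedPoint B.functionField)) (IsLocalRing.closedPoint _),
      Scheme.fromSpecStalk_closedPoint] at h
    exact h
  refine ⟨H, eH, by rw [Category.assoc, hH, IsIso.inv_hom_id_assoc], Spec.map_injective ?_⟩
  rw [← cancel_mono (A.fromSpecStalk (genericPoint A)), Spec.map_comp, Category.assoc,
    Scheme.SpecMap_stalkSpecializes_fromSpecStalk, Scheme.SpecMap_stalkMap_fromSpecStalk, hHs]

variable {X Y : Scheme.{u}} [IsIntegral X] [IsIntegral Y]
  (pX : X ⟶ Spec (CommRingCat.of k)) (pY : Y ⟶ Spec (CommRingCat.of k))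

/-- A finite map between curves of the same dimension preserves generic points. -/
theorem map_genericPoint_of_finite [LocallyOfFiniteType pY] (f : X ⟶ Y) [IsFinite f]
    (hf : f ≫ pY = pX) (hdim : topologicalKrullDim X = topologicalKrullDim Y) :
    f (genericPoint X) = genericPoint Y := by
  haveI : LocallyOfFiniteType (f ≫ pY) := inferInstance
  rw [VarDim.topologicalKrullDim_eq_deg_genericPoint pY,
    VarDim.topologicalKrullDim_eq_deg_genericPoint (f ≫ pY)] at hdim
  have hd : VarDim.deg (f ≫ pY) (genericPoint X) = VarDim.deg pY (genericPoint Y) := by exact_mod_cast hdim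
  have h := VarDim.deg_comp_eq f pY (genericPoint X)
  rw [H23.Isogeny.fdeg_eq_zero_of_finite f] at h
  exact (VarDim.eq_of_specializes_of_deg_le pY (genericPoint_specializes (f (genericPoint X))) (by omega)).symm

theorem isAlgebraic_ff [LocallyOfFiniteType pX] [LocallyOfFiniteType pY]
    (hdim : topologicalKrullDim X = topologicalKrullDim Y) (u : Y.functionField ⟶ X.functionField)
    (hu : ffC pY ≫ u = ffC pX) :
    letI := u.hom.toAlgebra
    Algebra.IsAlgebraic Y.functionField X.functionField := by
  letI := u.hom.toAlgebra
  letI : Algebra k X.functionField := (ffC pX).hom.toAlgebra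
  letI : Algebra k Y.functionField := (ffC pY).hom.toAlgebra
  haveI : IsScalarTower k Y.functionField X.functionField :=
    IsScalarTower.of_algebraMap_eq fun c => congr($(hu).hom c).symm
  rw [← trdeg_eq_zero_iff]
  have hX : Algebra.trdeg k X.functionField = (VarDim.deg pX (genericPoint X) : Cardinal) := by
    show @Algebra.trdeg k X.functionField _ _ (ffC pX).hom.toAlgebra = _
    rw [ffC_eq_scal]
    exact GenDiff29.trdeg_stalk pX rfl
  have hY : Algebra.trdeg k Y.functionField = (VarDim.deg pY (genericPoint Y) : Cardinal) := by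
    show @Algebra.trdeg k Y.functionField _ _ (ffC pY).hom.toAlgebra = _
    rw [ffC_eq_scal]
    exact GenDiff29.trdeg_stalk pY rfl
  rw [VarDim.topologicalKrullDim_eq_deg_genericPoint pY,
    VarDim.topologicalKrullDim_eq_deg_genericPoint pX] at hdim
  have hd : VarDim.deg pX (genericPoint X) = VarDim.deg pY (genericPoint Y) := by exact_mod_cast hdim
  have h := trdeg_add_eq k Y.functionField (A := X.functionField)
  rw [hX, hY, hd] at h
  exact Cardinal.eq_of_add_eq_add_left (h.trans (add_zero _).symm) (Cardinal.natCast_lt_aleph0)

/-- Factor a finite map through a Frobenius twist so that the second map is separable. -/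
theorem exists_separable_factor (p : ℕ) [ExpChar k p] [IsProper pX] [IsProper pY] [Smooth pX]
    (hdX : topologicalKrullDim X = 1) (hdY : topologicalKrullDim Y = 1)
    (f : X ⟶ Y) [IsFinite f] (hf : f ≫ pY = pX) :
    ∃ (r : ℕ) (_ : IsIntegral (pullback pX (frobBase p r) : Scheme.{u}))
      (g : (pullback pX (frobBase p r) : Scheme.{u}) ⟶ Y) (eg : g (genericPoint _) = genericPoint Y),
      g ≫ pY = pullback.snd pX (frobBase p r) ∧
        (letI := (CurveTrace.ff eg).toAlgebra
         Algebra.IsSeparable Y.functionField (pullback pX (frobBase p r) : Scheme.{u}).functionField) := by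
  have e := map_genericPoint_of_finite pX pY f hf (hdX.trans hdY.symm)
  let u : Y.functionField ⟶ X.functionField :=
    Y.presheaf.stalkSpecializes (specializes_of_eq e) ≫ f.stalkMap (genericPoint X)
  have hu : ffC pY ≫ u = ffC pX := by
    refine Spec.map_injective ?_
    rw [Spec.map_comp, spec_ffC, spec_ffC, Spec.map_comp, Category.assoc,
      Scheme.SpecMap_stalkSpecializes_fromSpecStalk_assoc, Scheme.SpecMap_stalkMap_fromSpecStalk_assoc, hf]
  letI := u.hom.toAlgebra
  letI : Algebra k X.functionField := (ffC pX).hom.toAlgebra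
  letI : Algebra k Y.functionField := (ffC pY).hom.toAlgebra
  haveI : IsScalarTower k Y.functionField X.functionField :=
    IsScalarTower.of_algebraMap_eq fun c => congr($(hu).hom c).symm
  haveI : Algebra.IsAlgebraic Y.functionField X.functionField :=
    isAlgebraic_ff pX pY (hdX.trans hdY.symm) u hu
  haveI : Algebra.EssFiniteType k X.functionField := by
    show @Algebra.EssFiniteType k X.functionField _ _ (ffC pX).hom.toAlgebra
    rw [ffC_eq_scal]
    exact GenDiff29.essFiniteType_stalk pX rfl
  let S := separableClosure Y.functionField X.functionField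
  let L : IntermediateField k X.functionField := S.restrictScalars k
  haveI : IsPurelyInseparable L X.functionField := separableClosure.isPurelyInseparable Y.functionField X.functionField
  obtain ⟨t, ht⟩ := exists_span_D pX hdX
  haveI : Algebra.EssFiniteType L X.functionField := Algebra.EssFiniteType.of_comp k L X.functionField
  haveI : FiniteDimensional L X.functionField := finiteDimensional_of_essFiniteType
  haveI : ExpChar X.functionField p := expChar_of_injective_ringHom (ffC pX).hom.injective p
  obtain ⟨r, hpow, hL⟩ := eq_adjoin_pow p t ht L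
  haveI := isIntegral_pullback p r pX
  let c : CommRingCat.of k ⟶ CommRingCat.of L := CommRingCat.ofHom (algebraMap k L)
  let v : CommRingCat.of L ⟶ X.functionField := CommRingCat.ofHom (algebraMap L X.functionField)
  obtain ⟨Φ, hΦ⟩ := exists_fieldIso p pX r c v rfl (fun z => ⟨⟨_, hpow z⟩, rfl⟩) (fun y => by
    exact (SetLike.ext_iff.1 hL _).1 y.2)
  have hmem : ∀ y : Y.functionField, u.hom y ∈ L := fun y => S.algebraMap_mem y
  let ω : Y.functionField ⟶ CommRingCat.of L :=
    CommRingCat.ofHom (u.hom.codRestrict L.toSubfield.toSubring hmem)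
  have hω : ffC pY ≫ ω = c := by
    refine CommRingCat.hom_ext (RingHom.ext fun x => Subtype.ext ?_)
    exact congr($(hu).hom x)
  have hvX : ∀ x : (pullback pX (frobBase p r) : Scheme.{u}),
      ValuationRing ((pullback pX (frobBase p r)).presheaf.stalk x) := fun x => by
    letI : (pullback pX (frobBase p r) : Scheme.{u}).Over (Spec (CommRingCat.of k)) := ⟨pullback.snd pX (frobBase p r)⟩
    haveI : IsProper ((pullback pX (frobBase p r) : Scheme.{u}) ↘ Spec (CommRingCat.of k)) :=
      MorphismProperty.pullback_snd pX (frobBase p r) ‹IsProper pX›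
    exact valuationRing_stalk (k := k) (by rw [topologicalKrullDim_pullback, hdX])
      (fun y _ => (isNormalScheme_pullback p r pX y).2) x
  obtain ⟨g, eg, hg, hff⟩ := exists_hom_of_ff pY (pullback.snd pX (frobBase p r)) hvX (ω ≫ Φ.inv)
    (by rw [← Category.assoc, hω, ← hΦ, Category.assoc, Φ.hom_inv_id, Category.comp_id])
  refine ⟨r, inferInstance, g, eg, hg, ?_⟩
  letI := (CurveTrace.ff eg).toAlgebra
  haveI : Algebra.IsSeparable Y.functionField S := separableClosure.isSeparable _ _
  let E : S ≃ₐ[Y.functionField] (pullback pX (frobBase p r) : Scheme.{u}).functionField :=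
    { (Φ.symm.commRingCatIsoToRingEquiv : L ≃+* (pullback pX (frobBase p r) : Scheme.{u}).functionField) with
      commutes' := fun y => (congr($(hff).hom y)).symm }
  exact AlgEquiv.Algebra.isSeparable E

end Groth.Agent.FrobTwist
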