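import Groth.Agent.CurveFin.RelDim
import Groth.Agent.CurveLuroth.FF
import Groth.Agent.GenDiff29.Basic

/-! The differentials of the function field of a smooth curve are generated by one element. -/

noncomputable section

set_option linter.style.haveILetI false
set_option backward.isDefEq.respectTransparency false
set_option backward.isDefEq.respectTransparency.types false
set_option autoImplicit false

universe u

open CategoryTheory CategoryTheory.Limits AlgebraicGeometry TopologicalSpace Opposite

namespace Groth.Agent.FrobTwist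

open CurveLuroth

theorem span_D_of_cyclic {k A K : Type u} [CommRing k] [CommRing A] [Field K] [Algebra k A] [Algebra k K]
    [Algebra A K] [IsScalarTower k A K] [IsFractionRing A K] (ω : Ω[A⁄k])
    (hω : Submodule.span A {ω} = ⊤) :
    ∃ t : K, Submodule.span K {KaehlerDifferential.D k K t} = ⊤ := by
  let η : Ω[K⁄k] := KaehlerDifferential.map k k A K ω
  have hA : ∀ a : A, KaehlerDifferential.D k K (algebraMap A K a) ∈ Submodule.span K {η} := fun a => by
    obtain ⟨c, hc⟩ := Submodule.mem_span_singleton.1 (hω.ge (Submodule.mem_top (x := KaehlerDifferential.D k A a)))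
    rw [← KaehlerDifferential.map_D k k A K a, ← hc, LinearMap.map_smul, ← algebraMap_smul K c η]
    exact Submodule.smul_mem _ _ (Submodule.subset_span rfl)
  have hK : ∀ z : K, KaehlerDifferential.D k K z ∈ Submodule.span K {η} := fun z => by
    obtain ⟨a, s, -, rfl⟩ := IsFractionRing.div_surjective A z
    rw [Derivation.leibniz_div]
    exact Submodule.smul_mem _ _ (sub_mem (Submodule.smul_mem _ _ (hA a)) (Submodule.smul_mem _ _ (hA s)))
  by_cases h : ∀ z : K, KaehlerDifferential.D k K z = 0
  · refine ⟨0, top_le_iff.1 ?_⟩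
    rw [← KaehlerDifferential.span_range_derivation, Submodule.span_le]
    rintro _ ⟨z, rfl⟩
    rw [h z]
    exact zero_mem _
  push Not at h
  obtain ⟨t, ht⟩ := h
  obtain ⟨c, hc⟩ := Submodule.mem_span_singleton.1 (hK t)
  have hc0 : c ≠ 0 := fun hc0 => ht (by rw [← hc, hc0, zero_smul])
  refine ⟨t, top_le_iff.1 ?_⟩
  rw [← KaehlerDifferential.span_range_derivation, Submodule.span_le]
  rintro _ ⟨z, rfl⟩
  refine Submodule.span_le.2 ?_ (hK z)
  rintro _ rfl
  rw [SetLike.mem_coe, Submodule.mem_span_singleton]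
  exact ⟨c⁻¹, by rw [← hc, inv_smul_smul₀ hc0]⟩

variable {k : Type u} [Field k]

theorem ffC_eq_scal {X : Scheme.{u}} [IrreducibleSpace X] (f : X ⟶ Spec (CommRingCat.of k)) :
    (ffC f).hom = GenDiff29.scal f (genericPoint X) := by
  have h : Spec.map (ffC f) = Spec.map (((Scheme.ΓSpecIso (CommRingCat.of k)).inv ≫ f.appTop) ≫
      X.presheaf.germ ⊤ (genericPoint X) trivial) := by
    rw [spec_ffC, Spec.map_comp, Spec.map_comp, ← Scheme.fromSpecStalk_toSpecΓ, Category.assoc,
      ← Scheme.toSpecΓ_naturality_assoc, toSpecΓ_SpecMap_ΓSpecIso_inv, Category.comp_id]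
  exact congrArg CommRingCat.Hom.hom (Spec.map_injective h)

theorem exists_span_D {X : Scheme.{u}} [IsIntegral X] (f : X ⟶ Spec (CommRingCat.of k)) [Smooth f]
    (hd : topologicalKrullDim X = 1) :
    letI := (ffC f).hom.toAlgebra
    ∃ t : X.functionField, Submodule.span X.functionField {KaehlerDifferential.D k X.functionField t} = ⊤ := by
  letI := (ffC f).hom.toAlgebra
  haveI := CurveFin.smoothOfRelativeDimension_of_dim (f := f) (d := 1) (by exact_mod_cast hd)
  obtain ⟨V, hV, U, hU, hxU, e, hstd⟩ :=
    SmoothOfRelativeDimension.exists_isStandardSmoothOfRelativeDimension (n := 1) (f := f) (genericPoint X)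
  haveI : Subsingleton (Spec (CommRingCat.of k)) := inferInstanceAs (Subsingleton (PrimeSpectrum k))
  obtain rfl : V = ⊤ := top_le_iff.1 fun q _ => by
    rw [Subsingleton.elim q (f (genericPoint X))]; exact e hxU
  haveI : Nonempty U := ⟨⟨_, hxU⟩⟩
  let ψ := (Scheme.ΓSpecIso (CommRingCat.of k)).inv ≫ f.appLE ⊤ U e
  letI : Algebra k Γ(X, U) := ψ.hom.toAlgebra
  haveI : Algebra.IsStandardSmoothOfRelativeDimension 1 k Γ(X, U) :=
    RingHom.isStandardSmoothOfRelativeDimension_respectsIso.2 _
      (Scheme.ΓSpecIso (CommRingCat.of k)).symm.commRingCatIsoToRingEquiv hstd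
  haveI : Algebra.IsStandardSmooth k Γ(X, U) := Algebra.IsStandardSmoothOfRelativeDimension.isStandardSmooth 1
  haveI : IsScalarTower k Γ(X, U) X.functionField := IsScalarTower.of_algebraMap_eq fun c => by
    rw [RingHom.algebraMap_toAlgebra, ffC_eq_scal]
    show X.presheaf.germ ⊤ (genericPoint X) trivial (f.appTop _) = X.presheaf.germ U _ hxU (f.appLE ⊤ U e _)
    rw [Scheme.Hom.appLE, CommRingCat.comp_apply, TopCat.Presheaf.germ_res_apply]
    rfl
  haveI := functionField_isFractionRing_of_isAffineOpen X U hU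
  haveI : Nontrivial Γ(X, U) := inferInstance
  obtain ⟨b⟩ : Nonempty (Module.Basis (Fin 1) Γ(X, U) Ω[Γ(X, U)⁄k]) := by
    refine ⟨Module.finBasisOfFinrankEq _ _ ?_⟩
    rw [Module.finrank, Algebra.IsStandardSmoothOfRelativeDimension.rank_kaehlerDifferential 1]
    simp
  refine span_D_of_cyclic (b 0) ?_
  rw [← b.span_eq]
  congr 1
  ext x
  simp [eq_comm]

end Groth.Agent.FrobTwist
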