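import Mathlib.FieldTheory.PurelyInseparable.Basic
import Mathlib.FieldTheory.PurelyInseparable.Tower
import Mathlib.RingTheory.Unramified.Field
import Mathlib.RingTheory.Kaehler.Basic
import Mathlib.Algebra.CharP.IntermediateField

/-!
A subfield of purely inseparable index `q` in a field whose differentials are generated by one element
is generated by the constants and the `q`-th powers.
-/

set_option autoImplicit false

universe u

noncomputable section

namespace Groth.Agent.FrobTwist

open IntermediateField

variable {k K : Type u} [Field k] [Field K] [Algebra k K] (p : ℕ) [ExpChar K p]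

omit [Algebra k K] in
theorem pow_mem_range {F : Type u} [Field F] [Algebra F K] [ExpChar F p] [IsPurelyInseparable F K]
    [FiniteDimensional F K] :
    ∃ r : ℕ, Module.finrank F K = p ^ r ∧ ∀ z : K, z ^ p ^ r ∈ (algebraMap F K).range := by
  obtain ⟨r, hr⟩ := IsPurelyInseparable.finrank_eq_pow (F := F) (E := K) p
  refine ⟨r, hr, fun z => ?_⟩
  obtain ⟨n, hn⟩ := IsPurelyInseparable.minpoly_eq_X_sub_C_pow (F := F) p z
  have hdeg : p ^ n ≤ p ^ r := by
    have h1 := congrArg Polynomial.natDegree hn
    rw [Polynomial.natDegree_map, Polynomial.natDegree_pow, Polynomial.natDegree_X_sub_C, mul_one] at h1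
    rw [← hr, ← h1]
    exact minpoly.natDegree_le z
  have hmem : z ^ p ^ n ∈ (algebraMap F K).range := by
    refine ⟨-((minpoly F z).coeff 0), ?_⟩
    have h0 := congrArg (fun P : Polynomial K => P.coeff 0) hn
    rw [Polynomial.coeff_map, sub_pow_expChar_pow, ← Polynomial.C_pow, Polynomial.coeff_sub, Polynomial.coeff_C_zero,
      Polynomial.coeff_X_pow, if_neg (pow_ne_zero n (expChar_pos K p).ne').symm, zero_sub] at h0
    rw [map_neg, h0, neg_neg]
  rcases eq_or_lt_of_le hdeg with h | h
  · rwa [← h]
  · have hnr : n ≤ r := ((Nat.pow_lt_pow_iff_right (lt_of_le_of_ne (expChar_pos K p) fun h1 => by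
      rw [← h1, one_pow, one_pow] at h; exact lt_irrefl _ h)).1 h).le
    rw [show p ^ r = p ^ n * p ^ (r - n) by rw [← pow_add, Nat.add_sub_cancel' hnr], pow_mul]
    exact Subring.pow_mem _ hmem _

/-- The subfield is generated by the powers. -/
theorem eq_adjoin_pow [Algebra.EssFiniteType k K] (t : K)
    (ht : Submodule.span K {KaehlerDifferential.D k K t} = ⊤) (L : IntermediateField k K)
    [IsPurelyInseparable L K] [FiniteDimensional L K] :
    ∃ r : ℕ, (∀ z : K, z ^ p ^ r ∈ L) ∧ L = adjoin k (Set.range fun z : K => z ^ p ^ r) := by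
  obtain ⟨r, hr, hz⟩ := pow_mem_range (F := L) (K := K) p
  have hz' : ∀ z : K, z ^ p ^ r ∈ L := fun z => by
    obtain ⟨y, hy⟩ := hz z
    rw [← hy]
    exact y.2
  refine ⟨r, hz', ?_⟩
  let M := adjoin k (Set.range fun z : K => z ^ p ^ r)
  have hML : M ≤ L := adjoin_le_iff.2 (by rintro _ ⟨z, rfl⟩; exact hz' z)
  have hpow : ∀ z : K, z ^ p ^ r ∈ (algebraMap M K).range := fun z =>
    ⟨⟨z ^ p ^ r, subset_adjoin k _ ⟨z, rfl⟩⟩, rfl⟩
  have hN : (adjoin M ({t} : Set K)) = ⊤ := by
    let N := adjoin M ({t} : Set K)
    haveI : IsPurelyInseparable M K := (isPurelyInseparable_iff_pow_mem M p).2 fun z => ⟨r, hpow z⟩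
    haveI : IsPurelyInseparable N K := IsPurelyInseparable.tower_top M N K
    haveI : IsScalarTower k N K := IsScalarTower.of_algebraMap_eq fun _ => rfl
    haveI : Algebra.EssFiniteType N K := Algebra.EssFiniteType.of_comp k N K
    haveI : Algebra.FormallyUnramified N K := by
      refine ⟨subsingleton_of_forall_eq 0 fun ω => ?_⟩
      obtain ⟨η, rfl⟩ := KaehlerDifferential.map_surjective k N K ω
      obtain ⟨a, rfl⟩ := Submodule.mem_span_singleton.1 (ht.ge (Submodule.mem_top (x := η)))
      rw [map_smul, KaehlerDifferential.map_D]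
      exact (congrArg (a • ·) (Derivation.map_algebraMap _ (⟨t, subset_adjoin M _ rfl⟩ : N))).trans (smul_zero a)
    haveI : Algebra.IsSeparable N K := Algebra.FormallyUnramified.isSeparable N K
    refine eq_top_iff.2 fun z _ => ?_
    obtain ⟨y, rfl⟩ := IsPurelyInseparable.surjective_algebraMap_of_isSeparable N K z
    exact y.2
  -- degrees
  have ht' : IsIntegral M t := by
    obtain ⟨y, hy⟩ := hpow t
    exact IsIntegral.of_pow (pow_pos (expChar_pos K p) r) (hy ▸ isIntegral_algebraMap)
  haveI : FiniteDimensional M (adjoin M ({t} : Set K)) := adjoin.finiteDimensional ht'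
  have hle : Module.finrank M K ≤ p ^ r := by
    rw [← finrank_top' (F := M) (E := K), ← hN, adjoin.finrank ht']
    obtain ⟨y, hy⟩ := hpow t
    refine le_trans (Polynomial.natDegree_le_of_dvd (minpoly.dvd M t (p := Polynomial.X ^ p ^ r - Polynomial.C y) ?_)
      (Polynomial.X_pow_sub_C_ne_zero (pow_pos (expChar_pos K p) r) y)) (by rw [Polynomial.natDegree_X_pow_sub_C])
    simp [hy]
  haveI : FiniteDimensional M K := by
    have h := adjoin.finiteDimensional ht'
    rw [hN] at h
    exact LinearEquiv.finiteDimensional (IntermediateField.topEquiv (F := M) (E := K)).toLinearEquiv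
  let L' : IntermediateField M K := IntermediateField.extendScalars hML
  have h2 : Module.finrank L' K = p ^ r := hr
  have h3 := Module.finrank_mul_finrank M L' K
  have h4 : Module.finrank M L' = 1 := by
    have hpos : 0 < Module.finrank M L' := Module.finrank_pos
    by_contra hne
    have : 2 * p ^ r ≤ Module.finrank M L' * p ^ r := Nat.mul_le_mul_right _ (by omega)
    have hq : 0 < p ^ r := pow_pos (expChar_pos K p) r
    rw [← h2] at this hq hle
    omega
  rw [IntermediateField.finrank_eq_one_iff] at h4
  refine le_antisymm (fun z hzL => ?_) hML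
  obtain ⟨y, hy⟩ := mem_bot.1 (show z ∈ (⊥ : IntermediateField M K) from h4 ▸ (show z ∈ L' from hzL))
  rw [← hy]
  exact y.2

end Groth.Agent.FrobTwist
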