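import Groth.Agent.FrobTwist.Field
import Groth.Agent.FrobTwist.Pullback
import Groth.Agent.FrobTwist.Cyclic

/-! A purely inseparable finite map of curves is a Frobenius twist. -/

noncomputable section

set_option linter.style.haveILetI false
set_option backward.isDefEq.respectTransparency false
set_option backward.isDefEq.respectTransparency.types false
set_option autoImplicit false

universe u

open CategoryTheory CategoryTheory.Limits AlgebraicGeometry TopologicalSpace Opposite

namespace Groth.Agent.FrobTwist

open CurveLuroth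

variable {k : Type u} [Field k] (p : ℕ) [ExpChar k p]

theorem finiteDimensional_of_essFiniteType {F E : Type u} [Field F] [Field E] [Algebra F E]
    [Algebra.EssFiniteType F E] [Algebra.IsAlgebraic F E] : FiniteDimensional F E := by
  obtain ⟨S, hS⟩ := IntermediateField.fg_top F E
  haveI := IntermediateField.finiteDimensional_adjoin (K := F) (S := (S : Set E))
    fun x _ => Algebra.IsIntegral.isIntegral x
  rw [hS] at this
  exact LinearEquiv.finiteDimensional (IntermediateField.topEquiv (F := F) (E := E)).toLinearEquiv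

/-- The map of function fields cuts out the `p^r`-th powers. -/
theorem exists_exponent {K L : Type u} [Field K] [Field L] [Algebra k K] [Algebra k L] (φ : L →ₐ[k] K)
    [Algebra.EssFiniteType k K] (t : K) (ht : Submodule.span K {KaehlerDifferential.D k K t} = ⊤)
    (hpi : letI := φ.toRingHom.toAlgebra; IsPurelyInseparable L K) :
    ∃ r : ℕ, (∀ z : K, ∃ y : L, φ y = z ^ p ^ r) ∧
      φ.fieldRange = IntermediateField.adjoin k (Set.range fun z : K => z ^ p ^ r) := by
  haveI : ExpChar K p := expChar_of_injective_ringHom (algebraMap k K).injective p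
  haveI : ExpChar L p := expChar_of_injective_ringHom (algebraMap k L).injective p
  haveI : IsPurelyInseparable φ.fieldRange K := by
    letI := φ.toRingHom.toAlgebra
    haveI := hpi
    refine (isPurelyInseparable_iff_pow_mem φ.fieldRange p).2 fun z => ?_
    obtain ⟨n, y, hy⟩ := IsPurelyInseparable.pow_mem L p z
    exact ⟨n, ⟨φ y, y, rfl⟩, hy⟩
  haveI : Algebra.EssFiniteType φ.fieldRange K := Algebra.EssFiniteType.of_comp k φ.fieldRange K
  haveI : FiniteDimensional φ.fieldRange K := finiteDimensional_of_essFiniteType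
  obtain ⟨r, hr, hL⟩ := eq_adjoin_pow p t ht φ.fieldRange
  exact ⟨r, fun z => hr z, hL⟩

variable {X Y : Scheme.{u}} [IsIntegral X] [IsIntegral Y]
  (pX : X ⟶ Spec (CommRingCat.of k)) (pY : Y ⟶ Spec (CommRingCat.of k))

omit [IsIntegral Y] in
/-- The function field of the twist. -/
theorem exists_fieldIso [IsProper pX] [Smooth pX] (r : ℕ) [IsIntegral (pullback pX (frobBase p r) : Scheme.{u})]
    {L : Type u} [Field L] (ι₀ : CommRingCat.of k ⟶ CommRingCat.of L)
    (u : CommRingCat.of L ⟶ X.functionField) (hu : ι₀ ≫ u = ffC pX)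
    (hpow : ∀ z : X.functionField, ∃ y, u.hom y = z ^ p ^ r)
    (hgen : ∀ y : L, u.hom y ∈ Subfield.closure
      (Set.range (ffC pX).hom ∪ Set.range fun z : X.functionField => z ^ p ^ r)) :
    ∃ φ : (pullback pX (frobBase p r) : Scheme.{u}).functionField ≅ CommRingCat.of L,
      ffC (pullback.snd pX (frobBase p r)) ≫ φ.hom = ι₀ := by
  haveI : ExpChar X.functionField p := expChar_of_injective_ringHom (ffC pX).hom.injective p
  have huinj : Function.Injective u.hom := u.hom.injective
  choose ψ0 hψ0 using hpow
  let ψh : X.functionField →+* (CommRingCat.of L) :=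
    { toFun := ψ0
      map_one' := huinj (by rw [hψ0, map_one, one_pow])
      map_mul' := fun a b => huinj (by rw [hψ0, map_mul, hψ0, hψ0, mul_pow])
      map_zero' := huinj (by rw [hψ0, map_zero, zero_pow (pow_ne_zero r (expChar_ne_zero k p))])
      map_add' := fun a b => huinj (by rw [hψ0, map_add, hψ0, hψ0, add_pow_expChar_pow]) }
  let ψ : X.functionField ⟶ (CommRingCat.of L) := CommRingCat.ofHom ψh
  have hψ : ffC pX ≫ ψ = CommRingCat.ofHom (iterateFrobenius k p r) ≫ ι₀ := by
    ext c
    refine huinj ?_
    show u.hom (ψ0 ((ffC pX).hom c)) = u.hom (ι₀.hom (iterateFrobenius k p r c))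
    have hc : ∀ c : k, u.hom (ι₀.hom c) = (ffC pX).hom c := fun c => congr($(hu).hom c)
    rw [hψ0, hc, iterateFrobenius_def, map_pow]
  have hw : (Spec.map ψ ≫ X.fromSpecStalk (genericPoint X)) ≫ pX =
      Spec.map ι₀ ≫ frobBase p r := by
    rw [Category.assoc, ← spec_ffC, ← Spec.map_comp, hψ, Spec.map_comp]
  let η : Spec (CommRingCat.of L) ⟶ (pullback pX (frobBase p r) : Scheme.{u}) := pullback.lift _ _ hw
  let x' := η (IsLocalRing.closedPoint (CommRingCat.of L))
  have hx' : x' = genericPoint (pullback pX (frobBase p r) : Scheme.{u}) := by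
    haveI : Surjective (pullback.fst pX (frobBase p r)) := ⟨(isHomeomorph_fst p r pX).surjective⟩
    haveI : IsDominant (pullback.fst pX (frobBase p r)) := inferInstance
    refine (isHomeomorph_fst p r pX).injective ?_
    rw [GenDiff29.genericPoint_eq_of_isDominant (pullback.fst pX (frobBase p r))]
    show (η ≫ pullback.fst pX (frobBase p r)) (IsLocalRing.closedPoint (CommRingCat.of L)) = genericPoint X
    rw [pullback.lift_fst, Scheme.Hom.comp_apply]
    haveI : Subsingleton (Spec X.functionField) := inferInstanceAs (Subsingleton (PrimeSpectrum X.functionField))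
    rw [Subsingleton.elim (Spec.map ψ (IsLocalRing.closedPoint (CommRingCat.of L))) (IsLocalRing.closedPoint _),
      Scheme.fromSpecStalk_closedPoint]
  let θ : (pullback pX (frobBase p r) : Scheme.{u}).functionField ⟶ (CommRingCat.of L) :=
    (pullback pX (frobBase p r)).presheaf.stalkSpecializes (specializes_of_eq hx') ≫ Scheme.stalkClosedPointTo η
  have hθ : Spec.map θ ≫ (pullback pX (frobBase p r)).fromSpecStalk (genericPoint _) = η := by
    rw [Spec.map_comp, Category.assoc, Scheme.SpecMap_stalkSpecializes_fromSpecStalk,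
      Scheme.Spec_stalkClosedPointTo_fromSpecStalk]
  have hθc : ffC (pullback.snd pX (frobBase p r)) ≫ θ = ι₀ := by
    refine Spec.map_injective ?_
    rw [Spec.map_comp, spec_ffC, reassoc_of% hθ, pullback.lift_snd]
  have hdom : pullback.fst pX (frobBase p r) (genericPoint _) = genericPoint X := by
    haveI : Surjective (pullback.fst pX (frobBase p r)) := ⟨(isHomeomorph_fst p r pX).surjective⟩
    exact GenDiff29.genericPoint_eq_of_isDominant _
  have hθψ : (X.presheaf.stalkSpecializes (specializes_of_eq hdom) ≫
      (pullback.fst pX (frobBase p r)).stalkMap (genericPoint _)) ≫ θ = ψ := by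
    refine Spec.map_injective ?_
    rw [← cancel_mono (X.fromSpecStalk (genericPoint X))]
    simp only [Spec.map_comp, Category.assoc]
    rw [Scheme.SpecMap_stalkSpecializes_fromSpecStalk, Scheme.SpecMap_stalkMap_fromSpecStalk, reassoc_of% hθ,
      pullback.lift_fst]
  have hsurj : Function.Surjective θ.hom := fun y => by
    have hle : Subfield.closure (Set.range (ffC pX).hom ∪ Set.range fun z : X.functionField => z ^ p ^ r) ≤
        (u.hom.comp θ.hom).fieldRange := by
      refine Subfield.closure_le.2 (Set.union_subset ?_ ?_)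
      · rintro _ ⟨c, rfl⟩
        refine ⟨(ffC (pullback.snd pX (frobBase p r))).hom c, ?_⟩
        show u.hom (θ.hom _) = _
        rw [show θ.hom ((ffC (pullback.snd pX (frobBase p r))).hom c) = ι₀.hom c from congr($(hθc).hom c)]
        exact congr($(hu).hom c)
      · rintro _ ⟨z, rfl⟩
        refine ⟨(X.presheaf.stalkSpecializes (specializes_of_eq hdom) ≫
          (pullback.fst pX (frobBase p r)).stalkMap (genericPoint _)).hom z, ?_⟩
        exact (congrArg u.hom congr($(hθψ).hom z)).trans (hψ0 z)
    obtain ⟨w, hw⟩ := hle (hgen y)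
    exact ⟨w, huinj hw⟩
  let e := RingEquiv.ofBijective θ.hom ⟨θ.hom.injective, hsurj⟩
  exact ⟨e.toCommRingCatIso, hθc⟩

/-- The rational map from `Y` to the twist. -/
theorem exists_rational [IsProper pX] [Smooth pX] (r : ℕ) [IsIntegral (pullback pX (frobBase p r) : Scheme.{u})]
    (u : Y.functionField ⟶ X.functionField) (hu : ffC pY ≫ u = ffC pX)
    (hpow : ∀ z : X.functionField, ∃ y, u.hom y = z ^ p ^ r)
    (hgen : ∀ y : Y.functionField, u.hom y ∈ Subfield.closure
      (Set.range (ffC pX).hom ∪ Set.range fun z : X.functionField => z ^ p ^ r)) :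
    ∃ φ : (pullback pX (frobBase p r) : Scheme.{u}).functionField ≅ Y.functionField,
      ffC (pullback.snd pX (frobBase p r)) ≫ φ.hom = ffC pY :=
  exists_fieldIso p pX r (L := Y.functionField) (ffC pY) u hu hpow hgen

theorem exists_twist [IsProper pX] [IsProper pY] [Smooth pX] (hdX : topologicalKrullDim X = 1)
    (hdY : topologicalKrullDim Y = 1) (hnY : Pi1.IsNormalScheme Y) (f : X ⟶ Y) (hf : f ≫ pY = pX)
    (e : f (genericPoint X) = genericPoint Y)
    (hpi : letI := ((Y.presheaf.stalkSpecializes (specializes_of_eq e) ≫ f.stalkMap (genericPoint X)).hom).toAlgebra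
      IsPurelyInseparable Y.functionField X.functionField) :
    ∃ (r : ℕ) (i : Y ≅ (pullback pX (frobBase p r) : Scheme.{u})),
      i.hom ≫ pullback.snd pX (frobBase p r) = pY := by
  let u : Y.functionField ⟶ X.functionField :=
    Y.presheaf.stalkSpecializes (specializes_of_eq e) ≫ f.stalkMap (genericPoint X)
  have hu : ffC pY ≫ u = ffC pX := by
    refine Spec.map_injective ?_
    rw [Spec.map_comp, spec_ffC, spec_ffC, Spec.map_comp, Category.assoc,
      Scheme.SpecMap_stalkSpecializes_fromSpecStalk_assoc, Scheme.SpecMap_stalkMap_fromSpecStalk_assoc, hf]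
  letI : Algebra k X.functionField := (ffC pX).hom.toAlgebra
  letI : Algebra k Y.functionField := (ffC pY).hom.toAlgebra
  let φ : Y.functionField →ₐ[k] X.functionField := { u.hom with commutes' := fun c => congr($(hu).hom c) }
  haveI : Algebra.EssFiniteType k X.functionField := by
    show @Algebra.EssFiniteType k X.functionField _ _ (ffC pX).hom.toAlgebra
    rw [ffC_eq_scal]
    exact GenDiff29.essFiniteType_stalk pX rfl
  obtain ⟨t, ht⟩ := exists_span_D pX hdX
  obtain ⟨r, hpow, hL⟩ := exists_exponent p φ t ht hpi
  haveI := isIntegral_pullback p r pX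
  have hgen : ∀ y : Y.functionField, u.hom y ∈ Subfield.closure
      (Set.range (ffC pX).hom ∪ Set.range fun z : X.functionField => z ^ p ^ r) := fun y => by
    have h : u.hom y ∈ φ.fieldRange := ⟨y, rfl⟩
    rw [hL] at h
    exact h
  obtain ⟨Φ, hΦ⟩ := exists_rational p pX pY r u hu hpow hgen
  have hvY : ∀ y : Y, ValuationRing (Y.presheaf.stalk y) := fun y => by
    letI : Y.Over (Spec (CommRingCat.of k)) := ⟨pY⟩
    haveI : IsProper (Y ↘ Spec (CommRingCat.of k)) := ‹IsProper pY›
    exact valuationRing_stalk (k := k) hdY (fun y _ => (hnY y).2) y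
  have hvX : ∀ x : (pullback pX (frobBase p r) : Scheme.{u}),
      ValuationRing ((pullback pX (frobBase p r)).presheaf.stalk x) := fun x => by
    letI : (pullback pX (frobBase p r) : Scheme.{u}).Over (Spec (CommRingCat.of k)) := ⟨pullback.snd pX (frobBase p r)⟩
    haveI : IsProper ((pullback pX (frobBase p r) : Scheme.{u}) ↘ Spec (CommRingCat.of k)) :=
      MorphismProperty.pullback_snd pX (frobBase p r) ‹IsProper pX›
    exact valuationRing_stalk (k := k) (by rw [topologicalKrullDim_pullback, hdX])
      (fun y _ => (isNormalScheme_pullback p r pX y).2) x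
  haveI : IsProper (pullback.snd pX (frobBase p r)) := MorphismProperty.pullback_snd pX (frobBase p r) ‹IsProper pX›
  obtain ⟨E, hE⟩ := exists_iso_of_functionField (pullback.snd pX (frobBase p r)) pY hvX hvY Φ hΦ
  exact ⟨r, E.symm, (Iso.inv_comp_eq E).2 hE.symm⟩

end Groth.Agent.FrobTwist
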